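import Groth.Prelude.Def_W4c5qcohlocdualityLoc
import Mathlib.CategoryTheory.Abelian.GrothendieckCategory.Subobject
import Mathlib.CategoryTheory.Abelian.Refinements
import Mathlib.CategoryTheory.Limits.Constructions.Filtered
import Mathlib.CategoryTheory.Limits.FunctorCategory.EpiMono
import Mathlib.CategoryTheory.ObjectProperty.FiniteProducts

/-!
# Localizing classes in Grothendieck abelian categories
-/

set_option autoImplicit false

universe w v u

open CategoryTheory CategoryTheory.Limits ZeroObject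

namespace Groth.Agent.GabLoc29

variable {C : Type u} [Category.{v} C] [Abelian C]

attribute [local instance] IsFiltered.isConnected

/-- A filtered colimit of subobjects of `Q`-objects: colimit of pullbacks. -/
theorem exists_colimit_pullback [IsGrothendieckAbelian.{w} C] {J : Type w} [SmallCategory J]
    [IsFiltered J] {F : J ⥤ C} {c : Cocone F} (hc : IsColimit c) {B : C} (b : B ⟶ c.pt) [Mono b] :
    ∃ (G : J ⥤ C) (φ : G ⟶ F) (d : Cocone G) (_ : IsColimit d) (e : d.pt ≅ B),
      (∀ j, Mono (φ.app j)) ∧ ∀ j, d.ι.app j ≫ e.hom ≫ b = φ.app j ≫ c.ι.app j := by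
  let Q := (Functor.const J).obj (cokernel b)
  let τ : F ⟶ Q :=
    { app := fun j => c.ι.app j ≫ cokernel.π b
      naturality := fun i j h => by
        dsimp [Q]
        rw [c.w_assoc h, Category.comp_id] }
  let S := ShortComplex.mk _ _ (kernel.condition τ)
  have hS : S.Exact := S.exact_of_f_is_kernel (kernelIsKernel τ)
  let d := colimit.cocone (kernel τ)
  let f : d.pt ⟶ c.pt := IsColimit.map (colimit.isColimit _) c (kernel.ι τ)
  have hf : ∀ j, d.ι.app j ≫ f = (kernel.ι τ).app j ≫ c.ι.app j := fun j =>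
    IsColimit.ι_map (colimit.isColimit _) c _ j
  have hmono : Mono f := colim.map_mono' (kernel.ι τ) (colimit.isColimit _) hc f hf
  have hex := colim.exact_mapShortComplex hS (colimit.isColimit (kernel τ)) hc
    (isColimitConstCocone J (cokernel b)) f (cokernel.π b) hf
    (fun j => by simp [S, τ, Q, constCocone])
  haveI : Mono f := hmono
  haveI : Mono (colim.mapShortComplex S (colimit.isColimit (kernel τ)) c (constCocone J (cokernel b)) f
    (cokernel.π b) hf (fun j => by simp [S, τ, Q, constCocone])).f := hmono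
  have hb : (ShortComplex.mk b _ (cokernel.condition b)).Exact :=
    ShortComplex.exact_of_g_is_cokernel _ (cokernelIsCokernel b)
  let e : d.pt ≅ B := hex.fIsKernel.conePointUniqueUpToIso hb.fIsKernel
  have he : e.hom ≫ b = f :=
    IsLimit.conePointUniqueUpToIso_hom_comp hex.fIsKernel hb.fIsKernel WalkingParallelPair.zero
  refine ⟨kernel τ, kernel.ι τ, d, colimit.isColimit _, e,
    fun j => inferInstance, fun j => ?_⟩
  rw [he, hf]

/-- No morphisms to `M` and no nontrivial extensions by `M`. -/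
def G (M : C) : ObjectProperty C := fun B =>
  (∀ f : B ⟶ M, f = 0) ∧ ∀ ⦃N : C⦄ (i : M ⟶ N) (p : N ⟶ B) (hp : i ≫ p = 0),
    (ShortComplex.mk i p hp).ShortExact → ∃ s : B ⟶ N, s ≫ p = 𝟙 B

/-- All subobjects satisfy `G M`. -/
def T (M : C) : ObjectProperty C := fun Y => ∀ ⦃B : C⦄ (j : B ⟶ Y), Mono j → G M B

section

variable {M : C}

theorem exists_lift {Z B N : C} (hZ : G M Z) {i : M ⟶ N} {p : N ⟶ B} {hp : i ≫ p = 0}
    (hS : (ShortComplex.mk i p hp).ShortExact) (g : Z ⟶ B) : ∃ t : Z ⟶ N, t ≫ p = g := by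
  haveI : Mono i := hS.mono_f
  haveI : Epi p := hS.epi_g
  let i' : M ⟶ pullback g p := pullback.lift 0 i (by simp [hp])
  have h1 : i' ≫ pullback.fst g p = 0 := pullback.lift_fst _ _ _
  haveI : Mono i' := mono_of_mono_fac (pullback.lift_snd _ _ _ : i' ≫ pullback.snd g p = i)
  have hex : (ShortComplex.mk i' _ h1).Exact := by
    refine ShortComplex.exact_of_f_is_kernel _ (KernelFork.IsLimit.ofι' i' h1 fun {A} x hx => ?_)
    refine ⟨hS.exact.lift (x ≫ pullback.snd g p) ?_, ?_⟩
    · show (x ≫ pullback.snd g p) ≫ p = 0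
      rw [Category.assoc, ← pullback.condition, reassoc_of% hx, zero_comp]
    · refine pullback.hom_ext ?_ ?_
      · rw [Category.assoc, h1, comp_zero, hx]
      · rw [Category.assoc, pullback.lift_snd]
        exact hS.exact.lift_f _ _
  obtain ⟨s, hs⟩ := hZ.2 i' _ h1 (.mk' hex inferInstance inferInstance)
  exact ⟨s ≫ pullback.snd g p, by rw [Category.assoc, ← pullback.condition, reassoc_of% hs]⟩

theorem lift_unique {Z B N : C} (hZ : ∀ f : Z ⟶ M, f = 0) {i : M ⟶ N} {p : N ⟶ B} {hp : i ≫ p = 0}
    (hS : (ShortComplex.mk i p hp).ShortExact) {t t' : Z ⟶ N} (h : t ≫ p = t' ≫ p) : t = t' := by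
  haveI := hS.mono_f
  have e : (t - t') ≫ p = 0 := by rw [Preadditive.sub_comp, h, sub_self]
  have := hS.exact.lift_f (t - t') e
  rw [hZ (hS.exact.lift (t - t') e), zero_comp] at this
  exact sub_eq_zero.mp this.symm

theorem G_of_epi {K Y Z : C} (k : K ⟶ Y) (q : Y ⟶ Z) (w : k ≫ q = 0)
    (hS : (ShortComplex.mk k q w).ShortExact) (hK : ∀ f : K ⟶ M, f = 0) (hY : G M Y) : G M Z := by
  haveI : Epi q := hS.epi_g
  refine ⟨fun f => (cancel_epi q).mp ((hY.1 (q ≫ f)).trans comp_zero.symm), fun N i p hp h => ?_⟩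
  obtain ⟨t, ht⟩ := exists_lift hY h q
  have hkt : k ≫ t = 0 := lift_unique hK h (by rw [Category.assoc, ht, w, zero_comp])
  refine ⟨hS.exact.desc t hkt, (cancel_epi q).mp ?_⟩
  have := hS.exact.g_desc t hkt
  rw [← Category.assoc, this, ht, Category.comp_id]

theorem G_of_extension {S : ShortComplex C} (hS : S.ShortExact) (h₁ : G M S.X₁) (h₃ : G M S.X₃) :
    G M S.X₂ := by
  haveI := hS.mono_f
  haveI := hS.epi_g
  refine ⟨fun f => ?_, fun N i p hp h => ?_⟩
  · rw [← hS.exact.g_desc f (h₁.1 _), h₃.1 (hS.exact.desc f (h₁.1 _)), comp_zero]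
  · haveI : Mono i := h.mono_f
    haveI : Epi p := h.epi_g
    obtain ⟨t, ht⟩ := exists_lift h₁ h S.f
    have hz : t ≫ p ≫ S.g = 0 := by rw [reassoc_of% ht, S.zero]
    let p' : cokernel t ⟶ S.X₃ := cokernel.desc t (p ≫ S.g) hz
    let i' : M ⟶ cokernel t := i ≫ cokernel.π t
    have hp' : cokernel.π t ≫ p' = p ≫ S.g := cokernel.π_desc _ _ _
    have w' : i' ≫ p' = 0 := by rw [Category.assoc, hp', reassoc_of% hp, zero_comp]
    haveI : Epi p' := epi_of_epi_fac hp'
    have htker : (ShortComplex.mk t _ (cokernel.condition t)).Exact :=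
      ShortComplex.exact_of_g_is_cokernel _ (cokernelIsCokernel t)
    haveI : Mono i' := Preadditive.mono_of_cancel_zero _ fun {A} x hx => by
      obtain ⟨A', π, _, y, hy⟩ := htker.exact_up_to_refinements (x ≫ i) (by
        simpa [i'] using hx)
      dsimp at hy
      have h0 : y ≫ S.f = 0 := by rw [← ht, ← reassoc_of% hy, hp, comp_zero, comp_zero]
      rw [zero_of_comp_mono _ h0, zero_comp, ← Category.assoc] at hy
      exact (cancel_epi π).mp ((zero_of_comp_mono _ hy).trans comp_zero.symm)
    have hex : (ShortComplex.mk i' p' w').Exact := by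
      rw [ShortComplex.exact_iff_exact_up_to_refinements]
      intro A x hx
      obtain ⟨A', π, _, y, hy⟩ := surjective_up_to_refinements_of_epi (cokernel.π t) x
      dsimp at hx hy
      have h0 : (y ≫ p) ≫ S.g = 0 := by
        rw [Category.assoc, ← hp', ← reassoc_of% hy, hx, comp_zero]
      have hz' := hS.exact.lift_f (y ≫ p) h0
      let z := hS.exact.lift (y ≫ p) h0
      have h1 : (y - z ≫ t) ≫ p = 0 := by
        rw [Preadditive.sub_comp, Category.assoc, ht, hz', sub_self]
      refine ⟨A', π, inferInstance, h.exact.lift (y - z ≫ t) h1, ?_⟩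
      have e := h.exact.lift_f (y - z ≫ t) h1
      dsimp [i'] at e ⊢
      rw [hy, reassoc_of% e, Preadditive.sub_comp, Category.assoc, cokernel.condition, comp_zero, sub_zero]
    obtain ⟨s, hs⟩ := h₃.2 i' p' w' (.mk' hex inferInstance inferInstance)
    let σ := ShortComplex.Splitting.ofExactOfSection _ hex s hs inferInstance
    have hr : i ≫ cokernel.π t ≫ σ.r = 𝟙 M := by
      have := σ.f_r
      dsimp [i'] at this
      rwa [Category.assoc] at this
    exact ⟨_, (ShortComplex.Splitting.ofExactOfRetraction _ h.exact (cokernel.π t ≫ σ.r) hr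
      inferInstance).s_g⟩

theorem G_of_isColimit {J : Type*} [Category* J] {F : J ⥤ C} {c : Cocone F} (hc : IsColimit c)
    (hF : ∀ j, G M (F.obj j)) : G M c.pt := by
  refine ⟨fun f => hc.hom_ext fun j => by rw [(hF j).1 (c.ι.app j ≫ f), comp_zero],
    fun N i p hp h => ?_⟩
  choose t ht using fun j => exists_lift (hF j) h (c.ι.app j)
  let d : Cocone F :=
    { pt := N
      ι :=
        { app := t
          naturality := fun j k g => by
            dsimp
            rw [Category.comp_id]
            exact lift_unique (hF j).1 h (by rw [Category.assoc, ht, c.w, ht]) } }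
  exact ⟨hc.desc d, hc.hom_ext fun j => by rw [hc.fac_assoc, Category.comp_id]; exact ht j⟩

theorem G_of_iso {X Y : C} (e : X ≅ Y) (h : G M X) : G M Y := by
  refine ⟨fun f => (cancel_epi e.hom).mp ((h.1 _).trans comp_zero.symm), fun N i p hp hS => ?_⟩
  obtain ⟨t, ht⟩ := exists_lift h hS e.hom
  exact ⟨e.inv ≫ t, by rw [Category.assoc, ht, e.inv_hom_id]⟩

theorem G_of_isZero {X : C} (h : IsZero X) : G M X :=
  ⟨fun _ => h.eq_of_src _ _, fun _ _ _ _ _ => ⟨0, h.eq_of_src _ _⟩⟩

end

/-- A Serre class is closed under finite coproducts. -/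
theorem prop_sigma (P : ObjectProperty C) [P.IsSerreClass] {J : Type*} [Finite J] (f : J → C)
    [HasCoproduct f] (hf : ∀ j, P (f j)) : P (∐ f) := by
  haveI : HasFiniteBiproducts C := HasFiniteBiproducts.of_hasFiniteProducts
  haveI : P.IsClosedUnderBinaryProducts :=
    ⟨fun X ⟨h⟩ => P.prop_of_iso
      ((biprod.isoProd _ _) ≪≫ IsLimit.conePointUniqueUpToIso (limit.isLimit _)
        ((IsLimit.postcomposeHomEquiv (diagramIsoPair h.diag) _).symm h.isLimit))
      (P.prop_biprod (h.prop_diag_obj ⟨WalkingPair.left⟩) (h.prop_diag_obj ⟨WalkingPair.right⟩))⟩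
  haveI : P.IsClosedUnderLimitsOfShape (Discrete.{0} PEmpty) :=
    ⟨fun X ⟨h⟩ => P.prop_of_isZero ((IsZero.iff_id_eq_zero X).mpr (h.isLimit.hom_ext fun j => j.as.elim))⟩
  haveI := ObjectProperty.IsClosedUnderFiniteProducts.mk' (P := P)
  exact P.prop_of_iso ((biproduct.isoProduct f).symm ≪≫ biproduct.isoCoproduct f) (P.prop_product hf)

instance T_isSerreClass (M : C) : (T M).IsSerreClass where
  exists_zero := ⟨0, isZero_zero C, fun B j hj => G_of_isZero (IsZero.of_mono j (isZero_zero C))⟩
  prop_of_mono f _ hY := fun B j hj => hY (j ≫ f) inferInstance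
  prop_of_epi {X Y} q _ hX := fun B j hj => by
    refine G_of_epi (kernel.ι (pullback.snd q j)) (pullback.snd q j) (kernel.condition _)
      (.mk' (ShortComplex.exact_of_f_is_kernel _ (kernelIsKernel _)) inferInstance inferInstance)
      (hX (kernel.ι (pullback.snd q j) ≫ pullback.fst q j) inferInstance).1
      (hX (pullback.fst q j) inferInstance)
  prop_X₂_of_shortExact {S} hS h₁ h₃ := fun B j hj => by
    haveI := hS.mono_f
    let g := j ≫ S.g
    let a : kernel g ⟶ S.X₁ := hS.exact.lift (kernel.ι g ≫ j) (by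
      rw [Category.assoc]; exact kernel.condition g)
    haveI : Mono a := mono_of_mono_fac (hS.exact.lift_f _ _)
    have w : kernel.ι g ≫ factorThruImage g = 0 := (cancel_mono (image.ι g)).mp (by
      rw [Category.assoc, image.fac, kernel.condition, zero_comp])
    refine G_of_extension (S := ShortComplex.mk (kernel.ι g) (factorThruImage g) w)
      (.mk' ?_ inferInstance inferInstance) (h₁ a inferInstance) (h₃ (image.ι g) inferInstance)
    refine ShortComplex.exact_of_f_is_kernel _ (KernelFork.IsLimit.ofι' _ w fun {A} x hx => ?_)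
    exact ⟨kernel.lift g x (by rw [← image.fac g, reassoc_of% hx, zero_comp]), kernel.lift_ι _ _ _⟩

theorem T_of_filtered [IsGrothendieckAbelian.{w} C] {M : C} {J : Type w} [SmallCategory J] [IsFiltered J]
    {F : J ⥤ C} {c : Cocone F} (hc : IsColimit c) (hF : ∀ j, T M (F.obj j)) : T M c.pt := by
  intro B b hb
  obtain ⟨Gf, φ, d, hd, e, hm, -⟩ := exists_colimit_pullback hc b
  exact G_of_iso e (G_of_isColimit hd fun j => hF j (φ.app j) (hm j))

/-- A Serre class closed under filtered colimits is closed under coproducts. -/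
theorem closedUnderCoproducts_of_filtered [IsGrothendieckAbelian.{w} C] (P : ObjectProperty C)
    [P.IsSerreClass] (h : ∀ {J : Type w} [SmallCategory J] [IsFiltered J] {F : J ⥤ C} {c : Cocone F},
      IsColimit c → (∀ j, P (F.obj j)) → P c.pt) (J : Type w) :
    P.IsClosedUnderColimitsOfShape (Discrete J) := by
  classical
  haveI : HasCoproducts.{w} C := inferInstance
  refine ⟨fun X ⟨hX⟩ => ?_⟩
  refine P.prop_of_iso ((Sigma.isoColimit hX.diag) ≪≫
    (IsColimit.coconePointUniqueUpToIso (colimit.isColimit _) hX.isColimit)) ?_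
  have key := h (CoproductsFromFiniteFiltered.isColimitFiniteSubproductsCocone fun j => hX.diag.obj ⟨j⟩)
    (fun s => prop_sigma P (fun x : { x // x ∈ s } => hX.diag.obj ⟨x.1.as⟩) fun x => hX.prop_diag_obj _)
  exact key

theorem isLocalizing_T [IsGrothendieckAbelian.{w} C] (M : C) : GabLoc.IsLocalizing.{w} (T M) :=
  ⟨inferInstance, fun J => closedUnderCoproducts_of_filtered _ T_of_filtered J⟩

theorem T_of_isClosedFor {P : ObjectProperty C} [P.IsClosedUnderSubobjects] {M : C}
    (h : GabLoc.IsClosedFor P M) : P ≤ T M := fun Y hY B j hj =>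
  ⟨h.1 (P.prop_of_mono j hY), fun N i p hp hS => by
    haveI := h.2 i p hp (P.prop_of_mono j hY) hS
    exact ⟨_, (ShortComplex.Splitting.ofExactOfRetraction _ hS.exact (retraction i)
      (IsSplitMono.id i) hS.epi_g).s_g⟩⟩

theorem isClosedFor_of_le_T {P : ObjectProperty C} {M : C} (h : P ≤ T M) :
    GabLoc.IsClosedFor P M :=
  ⟨fun Y hY => (h Y hY (𝟙 Y) inferInstance).1, fun N Y i p hp hY hS => by
    obtain ⟨s, hs⟩ := (h Y hY (𝟙 Y) inferInstance).2 i p hp hS
    exact (ShortComplex.Splitting.ofExactOfSection _ hS.exact s hs hS.mono_f).isSplitMono_f⟩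

end Groth.Agent.GabLoc29
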