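import Groth.Agent.GabLoc29.Uniform

/-!
# Transfinite filtrations with steps in subquotients of coproducts
-/

set_option autoImplicit false

universe w v u

open CategoryTheory CategoryTheory.Limits ZeroObject

namespace Groth.Agent.GabLoc29

variable {C : Type u} [Category.{v} C] [Abelian C] [IsGrothendieckAbelian.{w} C]

attribute [local instance] IsFiltered.isConnected

instance locClosure_isSerreClass (P : ObjectProperty C) : (GabLoc.locClosure.{w} P).IsSerreClass where
  exists_zero := ⟨0, isZero_zero C, fun Q hQ _ => by haveI := hQ.isSerreClass; exact Q.prop_zero⟩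
  prop_of_mono f _ h := fun Q hQ hle => by haveI := hQ.isSerreClass; exact Q.prop_of_mono f (h Q hQ hle)
  prop_of_epi f _ h := fun Q hQ hle => by haveI := hQ.isSerreClass; exact Q.prop_of_epi f (h Q hQ hle)
  prop_X₂_of_shortExact hS h₁ h₃ := fun Q hQ hle => by
    haveI := hQ.isSerreClass; exact Q.prop_X₂_of_shortExact hS (h₁ Q hQ hle) (h₃ Q hQ hle)

omit [IsGrothendieckAbelian.{w} C] in
theorem isLocalizing_locClosure (P : ObjectProperty C) [HasCoproducts.{w} C] [IsGrothendieckAbelian.{w} C] :
    GabLoc.IsLocalizing.{w} (GabLoc.locClosure.{w} P) :=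
  ⟨inferInstance, fun J => ⟨fun _ ⟨hX⟩ Q hQ hle =>
    haveI := hQ.isClosedUnderCoproducts J
    Q.prop_of_isColimit hX.isColimit fun j => hX.prop_diag_obj j Q hQ hle⟩⟩

theorem prop_of_isColimit_localizing {Q : ObjectProperty C} (hQ : GabLoc.IsLocalizing.{w} Q) {J : Type w}
    [SmallCategory J] {F : J ⥤ C} {c : Cocone F} (hc : IsColimit c) (hF : ∀ j, Q (F.obj j)) : Q c.pt := by
  haveI := hQ.isSerreClass
  haveI := hQ.isClosedUnderCoproducts J
  haveI : Epi (Sigma.desc c.ι.app) := ⟨fun g g' h => hc.hom_ext fun j => by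
    simpa using Sigma.ι F.obj j ≫= h⟩
  exact Q.prop_of_epi (Sigma.desc c.ι.app) (Q.prop_colimit (Discrete.functor F.obj) fun j => hF j.as)

section Subquot

variable {P : ObjectProperty C}

theorem subquot_of_mono {A A' : C} (a : A' ⟶ A) [Mono a] (h : GabLoc.subquotCoprod.{w} P A) :
    GabLoc.subquotCoprod.{w} P A' := by
  obtain ⟨J, X, hX, B, i, p, hi, hp⟩ := h
  exact ⟨J, X, hX, _, pullback.fst p a ≫ i, pullback.snd p a, inferInstance, inferInstance⟩

theorem subquot_of_epi {A A' : C} (a : A ⟶ A') [Epi a] (h : GabLoc.subquotCoprod.{w} P A) :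
    GabLoc.subquotCoprod.{w} P A' := by
  obtain ⟨J, X, hX, B, i, p, hi, hp⟩ := h
  exact ⟨J, X, hX, B, i, p ≫ a, hi, epi_comp _ _⟩

theorem subquot_of_isZero {A : C} (h : IsZero A) : GabLoc.subquotCoprod.{w} P A :=
  ⟨PEmpty, fun j => j.elim, fun j => j.elim, A, 0, 𝟙 A, ⟨fun _ _ _ => h.eq_of_tgt _ _⟩, inferInstance⟩

theorem subquot_of_prop {A : C} (h : P A) : GabLoc.subquotCoprod.{w} P A :=
  ⟨PUnit, fun _ => A, fun _ => h, A, Sigma.ι (fun _ : PUnit => A) ⟨⟩, 𝟙 A,
    mono_of_mono_fac (Sigma.ι_desc (fun _ : PUnit => 𝟙 A) ⟨⟩), inferInstance⟩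

theorem subquot_le (P : ObjectProperty C) : GabLoc.subquotCoprod.{w} P ≤ GabLoc.locClosure.{w} P := by
  rintro A ⟨J, X, hX, B, i, p, hi, hp⟩ Q hQ hle
  haveI := hQ.isSerreClass
  haveI := hQ.isClosedUnderCoproducts J
  exact Q.prop_of_epi p (Q.prop_of_mono i (Q.prop_colimit (Discrete.functor X) fun j => hle _ (hX j.as)))

end Subquot

/-- Every nonzero quotient has a nonzero subobject in `subquotCoprod P`. -/
def R (P : ObjectProperty C) : ObjectProperty C := fun X =>
  ∀ ⦃Z : C⦄ (q : X ⟶ Z), Epi q → ¬ IsZero Z →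
    ∃ (B : C) (b : B ⟶ Z), Mono b ∧ b ≠ 0 ∧ GabLoc.subquotCoprod.{w} P B

variable {P : ObjectProperty C}

theorem R_isLocalizing : GabLoc.IsLocalizing.{w} (R.{w} P) := by
  refine ⟨{ exists_zero := ⟨0, isZero_zero C, fun Z q _ hZ => absurd (IsZero.of_epi q (isZero_zero C)) hZ⟩
            prop_of_mono := ?_
            prop_of_epi := fun f _ h Z q _ hZ => h (f ≫ q) inferInstance hZ
            prop_X₂_of_shortExact := ?_ }, fun J => ⟨fun X ⟨hX⟩ Z q _ hZ => ?_⟩⟩
  · intro X' X f _ h Z q _ hZ
    let z := pushout.inr f q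
    obtain ⟨D, -, hmono, hess⟩ := exists_complement (Subobject.mk z) (⊥ : Subobject (pushout f q))
      (Preadditive.mono_of_cancel_zero _ fun x _ => by
        rw [← cancel_mono (⊥ : Subobject (pushout f q)).arrow, Subobject.bot_arrow, comp_zero, comp_zero])
    let u := (Subobject.underlyingIso z).inv ≫ (Subobject.mk z).arrow ≫ cokernel.π D.arrow
    haveI := hmono
    have hne : ¬ IsZero (cokernel D.arrow) := fun h0 => hZ (IsZero.of_mono u h0)
    obtain ⟨B, b, hb, hb0, hB⟩ := h (pushout.inl f q ≫ cokernel.π D.arrow) inferInstance hne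
    refine ⟨pullback u b, pullback.fst u b, inferInstance, fun h0 => hb0 ?_, subquot_of_mono (pullback.snd u b) hB⟩
    have hb' : b ≫ cokernel.π b = 0 := cokernel.condition b
    have : Mono (((Subobject.mk z).arrow ≫ cokernel.π D.arrow) ≫ cokernel.π b) :=
      Preadditive.mono_of_cancel_zero _ fun {A} x hx => by
        have hex : (ShortComplex.mk b _ hb').Exact :=
          ShortComplex.exact_of_g_is_cokernel _ (cokernelIsCokernel b)
        let x' := x ≫ (Subobject.underlyingIso z).hom
        have hxu : x' ≫ u = x ≫ (Subobject.mk z).arrow ≫ cokernel.π D.arrow := by simp [x', u]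
        have hx' : (x' ≫ u) ≫ cokernel.π b = 0 := by rw [hxu]; simpa using hx
        have hl := hex.lift_f (x' ≫ u) hx'
        have := pullback.lift_fst (f := u) (g := b) x' (hex.lift (x' ≫ u) hx') hl.symm
        rw [h0, comp_zero] at this
        exact (cancel_mono (Subobject.underlyingIso z).hom).mp (this.symm.trans zero_comp.symm)
    haveI := hess (cokernel.π b) this
    exact (cancel_mono (cokernel.π b)).mp (hb'.trans zero_comp.symm)
  · intro S hS h₁ h₃ Z q _ hZ
    haveI := hS.epi_g
    by_cases h0 : S.f ≫ q = 0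
    · exact h₃ (hS.exact.desc q h0) (epi_of_epi_fac (hS.exact.g_desc q h0)) hZ
    · obtain ⟨B, b, hb, hb0, hB⟩ := h₁ (factorThruImage (S.f ≫ q)) inferInstance fun hI => h0 (by
        rw [← image.fac (S.f ≫ q), hI.eq_of_src (image.ι (S.f ≫ q)) 0, comp_zero])
      exact ⟨B, b ≫ image.ι _, mono_comp _ _, fun h => hb0 (zero_of_comp_mono _ h), hB⟩
  · obtain ⟨j, hj⟩ : ∃ j, hX.ι.app j ≫ q ≠ 0 := by
      by_contra hh
      push Not at hh
      exact hZ (IsZero.of_epi_eq_zero q (hX.isColimit.hom_ext fun j => (hh j).trans comp_zero.symm))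
    obtain ⟨B, b, hb, hb0, hB⟩ := hX.prop_diag_obj j (factorThruImage (hX.ι.app j ≫ q)) inferInstance
      fun hI => hj (by
        rw [← image.fac (hX.ι.app j ≫ q), hI.eq_of_src (image.ι (hX.ι.app j ≫ q)) 0, comp_zero])
    exact ⟨B, b ≫ image.ι _, mono_comp _ _, fun h => hb0 (zero_of_comp_mono _ h), hB⟩

theorem le_R : P ≤ R.{w} P := fun X hX Z q _ hZ =>
  ⟨Z, 𝟙 Z, inferInstance, fun h => hZ ((IsZero.iff_id_eq_zero Z).mpr h), subquot_of_epi q (subquot_of_prop hX)⟩

theorem exists_larger {X : C} (hX : GabLoc.locClosure.{w} P X) (A : Subobject X) :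
    ∃ (A' : Subobject X) (h : A ≤ A'),
      GabLoc.monoModSubquot.{w} P (Subobject.ofLE A A' h) ∧ (A ≠ ⊤ → A < A') := by
  by_cases hA : A = ⊤
  · refine ⟨A, le_rfl, ⟨inferInstance, subquot_of_isZero ?_⟩, fun h => absurd hA h⟩
    rw [Subobject.ofLE_refl]
    exact isZero_cokernel_of_epi _
  have hZ : ¬ IsZero (cokernel A.arrow) := fun h0 => hA ((Subobject.isIso_arrow_iff_eq_top A).1 (by
    haveI : Epi A.arrow := Preadditive.epi_of_isZero_cokernel _ h0
    exact isIso_of_mono_of_epi _))
  obtain ⟨B, b, hb, hb0, hB⟩ := hX (R.{w} P) R_isLocalizing le_R (cokernel.π A.arrow) inferInstance hZ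
  let p := pullback.fst (cokernel.π A.arrow) b
  let q := pullback.snd (cokernel.π A.arrow) b
  have hq : p ≫ cokernel.π A.arrow = q ≫ b := pullback.condition
  let a : (A : C) ⟶ pullback (cokernel.π A.arrow) b := pullback.lift A.arrow 0 (by simp)
  let A' := Subobject.mk p
  have hle : A ≤ A' := Subobject.le_mk_of_comm a (pullback.lift_fst _ _ _)
  have ea : Subobject.ofLE A A' hle = a ≫ (Subobject.underlyingIso p).inv := by
    rw [← cancel_mono A'.arrow, Subobject.ofLE_arrow, Category.assoc, Subobject.underlyingIso_arrow,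
      pullback.lift_fst]
  refine ⟨A', hle, ⟨inferInstance, ?_⟩, fun _ => lt_of_le_of_ne hle fun h => ?_⟩
  · let v : (A' : C) ⟶ B := (Subobject.underlyingIso p).hom ≫ q
    have hv : Subobject.ofLE A A' hle ≫ v = 0 := by
      have ha : a ≫ q = 0 := pullback.lift_snd _ _ _
      simp [ea, v, ha]
    have hex : (ShortComplex.mk _ v hv).Exact := by
      refine ShortComplex.exact_of_f_is_kernel _ (KernelFork.IsLimit.ofι' _ hv fun {T} x hx => ?_)
      have hA' : (ShortComplex.mk A.arrow _ (cokernel.condition A.arrow)).Exact :=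
        ShortComplex.exact_of_g_is_cokernel _ (cokernelIsCokernel A.arrow)
      have hxA : (x ≫ A'.arrow) ≫ cokernel.π A.arrow = 0 := by
        rw [Category.assoc, ← Subobject.underlyingIso_hom_comp_eq_mk p, Category.assoc, hq]
        simp only [v] at hx
        rw [← Category.assoc (Subobject.underlyingIso p).hom, ← Category.assoc x, hx, zero_comp]
      refine ⟨hA'.lift _ hxA, ?_⟩
      rw [← cancel_mono A'.arrow, Category.assoc, Subobject.ofLE_arrow]
      exact hA'.lift_f _ hxA
    haveI : Epi v := epi_comp _ _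
    haveI : Epi (ShortComplex.mk _ v hv).g := ‹Epi v›
    exact subquot_of_epi (IsColimit.coconePointUniqueUpToIso hex.gIsCokernel
      (cokernelIsCokernel (Subobject.ofLE A A' hle))).hom hB
  · haveI : IsIso (Subobject.ofLE A A' hle) := by
      have e : Subobject.ofLE A A' hle = (Subobject.isoOfEq A A' h).hom := by
        rw [← cancel_mono A'.arrow]; simp
      rw [e]; infer_instance
    have h1 : (a ≫ (Subobject.underlyingIso p).inv) ≫ (Subobject.underlyingIso p).hom ≫ q = 0 := by
      have ha : a ≫ q = 0 := pullback.lift_snd _ _ _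
      simp [ha]
    rw [← ea] at h1
    have h2 : (Subobject.underlyingIso p).hom ≫ q = 0 :=
      (cancel_epi (Subobject.ofLE A A' hle)).mp (h1.trans comp_zero.symm)
    have h3 : q = 0 := (cancel_epi (Subobject.underlyingIso p).hom).mp (h2.trans comp_zero.symm)
    haveI : Epi q := inferInstanceAs (Epi (pullback.snd _ _))
    exact hb0 ((cancel_epi q).mp (by rw [h3, zero_comp, zero_comp]))

set_option backward.defeqAttrib.useBackward true in
set_option backward.isDefEq.respectTransparency false in
theorem filtration_of_locClosure {X : C} (hX : GabLoc.locClosure.{w} P X) :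
    MorphismProperty.transfiniteCompositions.{w} (GabLoc.monoModSubquot.{w} P) (0 : (0 : C) ⟶ X) := by
  choose L hle hstep hlt using fun A => exists_larger hX A
  have hLtop : L (⊤ : Subobject X) = ⊤ := le_antisymm le_top (hle ⊤)
  let κ := Order.succ (Cardinal.mk (Shrink.{w} (Subobject X)))
  haveI : Nonempty κ.ord.ToType := by simp [κ]
  let J := κ.ord.ToType
  letI : OrderBot J := WellFoundedLT.toOrderBot J
  have hJ : HasCardinalLT (Subobject X) (Cardinal.mk J) := lt_of_lt_of_le (Order.lt_succ _) (by simp [J, κ])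
  obtain ⟨j, hj⟩ := top_mem_range_transfiniteIterate (J := J) L (⊥ : Subobject X) (fun A hA => hlt A hA) hLtop
    (fun h => by simpa [hasCardinalLT_iff_cardinal_mk_lt] using hJ.of_injective _ h)
  let Fm : J ⥤ MonoOver X :=
    { obj := fun k => MonoOver.mk (transfiniteIterate L k ⊥).arrow
      map := fun {k k'} f =>
        MonoOver.homMk (Subobject.ofLE _ _ (monotone_transfiniteIterate L ⊥ hle (leOfHom f))) }
  let F : J ⥤ C := Fm ⋙ MonoOver.forget _ ⋙ Over.forget _
  haveI hwoc : F.IsWellOrderContinuous := ⟨fun m hm => ⟨by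
    have := hm.nonempty_Iio.to_subtype
    let c := (Set.principalSegIio m).cocone (Fm ⋙ MonoOver.forget _)
    have : Mono c.pt.hom := by dsimp [c, Fm]; infer_instance
    apply IsGrothendieckAbelian.isColimitMapCoconeOfSubobjectMkEqISup
      ((Set.principalSegIio m).monotone.functor ⋙ Fm) c
    dsimp [c, Fm]
    simp only [Subobject.mk_arrow]
    exact transfiniteIterate_limit L ⊥ m hm⟩⟩
  let t : (GabLoc.monoModSubquot.{w} P).TransfiniteCompositionOfShape (Set.Iic j)
      (F.map (homOfLE bot_le : ⊥ ⟶ j)) :=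
    { F := (Set.initialSegIic j).monotone.functor ⋙ F
      isoBot := Iso.refl _
      incl :=
        { app := fun k => F.map (homOfLE k.2)
          naturality := fun k k' h => by simp [F, Fm, MonoOver.forget] }
      isColimit := colimitOfDiagramTerminal isTerminalTop _
      map_mem := fun k hk => by
        dsimp [F, Fm, MonoOver.forget]
        convert! hstep (transfiniteIterate L k.1 ⊥) using 2
        all_goals
          rw [Set.Iic.succ_eq_of_not_isMax hk,
            transfiniteIterate_succ _ _ _ (Set.not_isMax_coe _ hk)] }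
  haveI := (Subobject.isIso_arrow_iff_eq_top (transfiniteIterate L j ⊥)).2 hj
  have hzero : IsZero (F.obj ⊥) := IsZero.of_mono_eq_zero (transfiniteIterate L ⊥ (⊥ : Subobject X)).arrow (by
    rw [← Subobject.ofLE_arrow (le_of_eq (transfiniteIterate_bot L (⊥ : Subobject X))), Subobject.bot_arrow,
      comp_zero])
  refine (MorphismProperty.transfiniteCompositions_iff _ _).2
    ⟨Set.Iic j, inferInstance, inferInstance, inferInstance, inferInstance, ?_⟩
  refine (t.ofArrowIso (Arrow.isoMk (IsZero.iso hzero (isZero_zero C))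
    (asIso (transfiniteIterate L j ⊥).arrow) ?_)).mem
  exact hzero.eq_of_src _ _

theorem locClosure_of_filtration {X : C}
    (h : MorphismProperty.transfiniteCompositions.{w} (GabLoc.monoModSubquot.{w} P) (0 : (0 : C) ⟶ X)) :
    GabLoc.locClosure.{w} P X := by
  obtain ⟨J, _, _, _, _, ⟨t⟩⟩ := (MorphismProperty.transfiniteCompositions_iff _ _).1 h
  have hQ := isLocalizing_locClosure.{w} P
  have key : ∀ j, GabLoc.locClosure.{w} P (t.F.obj j) := fun j => by
    induction j using SuccOrder.limitRecOn with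
    | isMin j hj =>
      rw [hj.eq_bot]
      exact (GabLoc.locClosure.{w} P).prop_of_isZero (IsZero.of_iso (isZero_zero C) t.isoBot)
    | succ j hj ih =>
      obtain ⟨hm, hc⟩ := t.map_mem j hj
      haveI := hm
      exact (GabLoc.locClosure.{w} P).prop_X₂_of_shortExact
        (S := ShortComplex.mk _ _ (cokernel.condition (t.F.map (homOfLE (Order.le_succ j)))))
        (.mk' (ShortComplex.exact_of_g_is_cokernel _ (cokernelIsCokernel _)) hm inferInstance)
        ih (subquot_le P _ hc)
    | isSuccLimit j hj ih =>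
      exact prop_of_isColimit_localizing hQ (t.F.isColimitOfIsWellOrderContinuous j hj) fun k => ih k.1 k.2
  exact prop_of_isColimit_localizing hQ t.isColimit key

end Groth.Agent.GabLoc29
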