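import Groth.Agent.GabLoc29.Basic
import Mathlib.CategoryTheory.Abelian.GrothendieckCategory.EnoughInjectives
import Mathlib.Order.Zorn

/-!
# Complements and essential extensions in Grothendieck abelian categories
-/

set_option autoImplicit false

universe w v u

open CategoryTheory CategoryTheory.Limits

namespace Groth.Agent.GabLoc29

variable {C : Type u} [Category.{v} C] [Abelian C] [IsGrothendieckAbelian.{w} C]

attribute [local instance] IsFiltered.isConnected

theorem mono_of_directed {X : C} {J : Type w} [Preorder J] [IsDirectedOrder J] [Nonempty J]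
    (S : J → Subobject X) (hS : Monotone S) {K : Subobject X} (hK : K = ⨆ j, S j) {Y : C}
    (g : (K : C) ⟶ Y) (hg : ∀ j, Mono (Subobject.ofLE (S j) K (hK ▸ le_iSup S j) ≫ g)) : Mono g := by
  let Fm : J ⥤ MonoOver X :=
    { obj := fun j => MonoOver.mk (S j).arrow
      map := fun f => MonoOver.homMk (Subobject.ofLE _ _ (hS f.le)) }
  let c : Cocone (Fm ⋙ MonoOver.forget X) :=
    { pt := Over.mk K.arrow
      ι :=
        { app := fun j => Over.homMk (Subobject.ofLE (S j) K (hK ▸ le_iSup S j)) (Subobject.ofLE_arrow _)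
          naturality := fun i j f => by
            apply Over.OverMorphism.ext
            show Subobject.ofLE (S i) (S j) (hS f.le) ≫ Subobject.ofLE (S j) K _ = Subobject.ofLE (S i) K _ ≫ 𝟙 _
            rw [Category.comp_id, Subobject.ofLE_comp_ofLE] } }
  haveI : Mono c.pt.hom := by dsimp [c]; infer_instance
  have hc := IsGrothendieckAbelian.isColimitMapCoconeOfSubobjectMkEqISup Fm c (by
    dsimp [c, Fm]; simp only [Subobject.mk_arrow]; exact hK)
  let φ : (Fm ⋙ MonoOver.forget X) ⋙ Over.forget X ⟶ (Functor.const J).obj Y :=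
    { app := fun j => Subobject.ofLE (S j) K (hK ▸ le_iSup S j) ≫ g
      naturality := fun i j f => by
        show Subobject.ofLE (S i) (S j) (hS f.le) ≫ Subobject.ofLE (S j) K _ ≫ g = (Subobject.ofLE (S i) K _ ≫ g) ≫ 𝟙 Y
        rw [Category.comp_id, ← Category.assoc, Subobject.ofLE_comp_ofLE] }
  haveI : ∀ j, Mono (φ.app j) := hg
  haveI := NatTrans.mono_of_mono_app φ
  exact colim.map_mono' φ hc (isColimitConstCocone J Y) g fun j => by
    show Subobject.ofLE (S j) K _ ≫ g = (Subobject.ofLE (S j) K _ ≫ g) ≫ 𝟙 Y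
    rw [Category.comp_id]

/-- Predicates on subobjects of `X` detected by monomorphy pass to suprema of chains. -/
theorem exists_sup_chain {X : C} (c : Set (Subobject X)) (hc : IsChain (· ≤ ·) c) (hne : c.Nonempty) :
    ∃ K : Subobject X, ∃ hle : ∀ z ∈ c, z ≤ K,
      ∀ {Y : C} (g : (K : C) ⟶ Y), (∀ z (hz : z ∈ c), Mono (Subobject.ofLE z K (hle z hz) ≫ g)) → Mono g := by
  let S : Shrink.{w} c → Subobject X := fun j => ((equivShrink c).symm j).1
  letI : Preorder (Shrink.{w} c) := Preorder.lift S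
  haveI : Nonempty (Shrink.{w} c) := ⟨equivShrink c ⟨_, hne.choose_spec⟩⟩
  haveI : IsDirectedOrder (Shrink.{w} c) := ⟨fun a b => by
    rcases hc.total ((equivShrink c).symm a).2 ((equivShrink c).symm b).2 with h | h
    · exact ⟨b, h, le_refl (S b)⟩
    · exact ⟨a, le_refl (S a), h⟩⟩
  have hle : ∀ z ∈ c, z ≤ ⨆ j, S j := fun z hz => le_iSup_of_le (equivShrink c ⟨z, hz⟩) (by simp [S])
  exact ⟨_, hle, fun g hg => mono_of_directed S (fun _ _ h => h) rfl g
    fun j => hg _ ((equivShrink c).symm j).2⟩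

omit [IsGrothendieckAbelian.{w} C] in
theorem disjoint_symm {X : C} {F D : Subobject X} (h : Mono (D.arrow ≫ cokernel.π F.arrow)) :
    Mono (F.arrow ≫ cokernel.π D.arrow) :=
  Preadditive.mono_of_cancel_zero _ fun {A} x hx => by
    have hD : (ShortComplex.mk D.arrow _ (cokernel.condition D.arrow)).Exact :=
      ShortComplex.exact_of_g_is_cokernel _ (cokernelIsCokernel D.arrow)
    obtain ⟨A', π, _, y, hy⟩ := hD.exact_up_to_refinements (x ≫ F.arrow) (by simpa using hx)
    dsimp at hy
    have hy0 : y ≫ D.arrow ≫ cokernel.π F.arrow = 0 := by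
      rw [← reassoc_of% hy, cokernel.condition, comp_zero, comp_zero]
    rw [zero_of_comp_mono _ hy0, zero_comp, ← Category.assoc] at hy
    exact (cancel_epi π).mp ((zero_of_comp_mono _ hy).trans comp_zero.symm)

/-- A complement `D` of `F` containing `D₀`: `F ⟶ X/D` is an essential monomorphism. -/
theorem exists_complement {X : C} (F D₀ : Subobject X) (h₀ : Mono (D₀.arrow ≫ cokernel.π F.arrow)) :
    ∃ D : Subobject X, D₀ ≤ D ∧ Mono (F.arrow ≫ cokernel.π D.arrow) ∧
      ∀ {Y : C} (g : cokernel D.arrow ⟶ Y), Mono ((F.arrow ≫ cokernel.π D.arrow) ≫ g) → Mono g := by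
  obtain ⟨D, hle, hD, hmax⟩ := zorn_le_nonempty₀ {D : Subobject X | Mono (D.arrow ≫ cokernel.π F.arrow)}
    (fun c hcs hc y hy => by
      obtain ⟨K, hK, hmono⟩ := exists_sup_chain c hc ⟨y, hy⟩
      refine ⟨K, hmono _ fun z hz => ?_, hK⟩
      rw [Subobject.ofLE_arrow_assoc]
      exact hcs hz) D₀ h₀
  refine ⟨D, hle, disjoint_symm hD, fun {Y} g hg => Preadditive.mono_of_cancel_zero _ fun {A} x hx => ?_⟩
  obtain ⟨A', π, _, y, hy⟩ := surjective_up_to_refinements_of_epi (cokernel.π D.arrow) x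
  let u := cokernel.π D.arrow ≫ g
  let E : Subobject X := kernelSubobject u
  have hDE : D ≤ E := le_kernelSubobject _ _ (by rw [cokernel.condition_assoc, zero_comp])
  have hE : Mono (E.arrow ≫ cokernel.π F.arrow) := Preadditive.mono_of_cancel_zero _ fun {B} z hz => by
    have hF : (ShortComplex.mk F.arrow _ (cokernel.condition F.arrow)).Exact :=
      ShortComplex.exact_of_g_is_cokernel _ (cokernelIsCokernel F.arrow)
    obtain ⟨B', ρ, _, t, ht⟩ := hF.exact_up_to_refinements (z ≫ E.arrow) (by simpa using hz)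
    dsimp at ht
    have h1 : t ≫ (F.arrow ≫ cokernel.π D.arrow) ≫ g = 0 := by
      simp only [Category.assoc, ← reassoc_of% ht, u, E, kernelSubobject_arrow_comp, comp_zero]
    rw [zero_of_comp_mono _ h1, zero_comp, ← Category.assoc] at ht
    exact (cancel_epi ρ).mp ((zero_of_comp_mono _ ht).trans comp_zero.symm)
  have hED : E ≤ D := hmax hE hDE
  have hyE : y ≫ u = 0 := by rw [← reassoc_of% hy, hx, comp_zero]
  have hfac : Subobject.Factors E y := kernelSubobject_factors _ _ hyE
  have := Subobject.factors_of_le y hED hfac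
  rw [← Subobject.factorThru_arrow D y this, Category.assoc, cokernel.condition, comp_zero] at hy
  exact (cancel_epi π).mp (hy.trans comp_zero.symm)

/-- An indecomposable injective is uniform. -/
theorem not_disjoint_of_indecomposable (E : C) [Injective E]
    (hind : ∀ (A B : C), Nonempty (E ≅ A ⊞ B) → IsZero A ∨ IsZero B)
    (A₁ A₂ : Subobject E) (h₁ : A₁.arrow ≠ 0) (h₂ : A₂.arrow ≠ 0) :
    ¬ Mono (A₁.arrow ≫ cokernel.π A₂.arrow) := by
  intro hdis
  obtain ⟨F, hAF', hF⟩ := zorn_le_nonempty₀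
    {F : Subobject E | ∃ h : A₁ ≤ F, ∀ (Y : C) (g : (F : C) ⟶ Y), Mono (Subobject.ofLE A₁ F h ≫ g) → Mono g}
    (fun c hcs hc y hy => by
      obtain ⟨K, hK, hmono⟩ := exists_sup_chain c hc ⟨y, hy⟩
      refine ⟨K, ⟨(hcs hy).1.trans (hK y hy), fun Y g hg => hmono g fun z hz => ?_⟩, hK⟩
      refine (hcs hz).2 Y _ ?_
      rwa [← Category.assoc, Subobject.ofLE_comp_ofLE]) A₁
    ⟨le_rfl, fun Y g hg => by simpa using hg⟩
  obtain ⟨⟨hAF, hess⟩, hmax⟩ := hF
  have hdis' : Mono (A₂.arrow ≫ cokernel.π F.arrow) := by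
    refine disjoint_symm (hess _ _ ?_)
    rwa [Subobject.ofLE_arrow_assoc]
  obtain ⟨D, hD₀, hmono, hessD⟩ := exists_complement F A₂ hdis'
  let u := F.arrow ≫ cokernel.π D.arrow
  haveI : Mono u := hmono
  let h := Injective.factorThru F.arrow u
  have hh : u ≫ h = F.arrow := Injective.comp_factorThru _ _
  haveI : Mono h := hessD h (by rw [hh]; infer_instance)
  let F' := Subobject.mk h
  have hFF' : F ≤ F' := Subobject.le_mk_of_comm u hh
  have hmem : ∀ (Y : C) (g : (F' : C) ⟶ Y), Mono (Subobject.ofLE A₁ F' (hAF.trans hFF') ≫ g) → Mono g := by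
    intro Y g hg
    have h1 : Mono (Subobject.ofLE F F' hFF' ≫ g) :=
      hess _ _ (by rwa [← Category.assoc, Subobject.ofLE_comp_ofLE])
    have h2 : Mono ((Subobject.underlyingIso h).inv ≫ g) := hessD _ (by
      have e : u ≫ (Subobject.underlyingIso h).inv = Subobject.ofLE F F' hFF' := by
        rw [← cancel_mono F'.arrow, Category.assoc, Subobject.underlyingIso_arrow, hh, Subobject.ofLE_arrow]
      rw [← Category.assoc, e]
      exact h1)
    have : g = (Subobject.underlyingIso h).hom ≫ (Subobject.underlyingIso h).inv ≫ g := by simp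
    rw [this]; exact mono_comp _ _
  have hF'F : F' ≤ F := hmax ⟨hAF.trans hFF', hmem⟩ hFF'
  let r := Subobject.ofMkLE h F hF'F
  have hr : r ≫ F.arrow = h := Subobject.ofMkLE_arrow hF'F
  have hur : u ≫ r = 𝟙 (F : C) := by rw [← cancel_mono F.arrow, Category.assoc, hr, hh, Category.id_comp]
  let π' : E ⟶ (F : C) := cokernel.π D.arrow ≫ r
  have hπ' : F.arrow ≫ π' = 𝟙 (F : C) := by rw [← Category.assoc]; exact hur
  haveI : Epi π' := epi_of_epi_fac hπ'
  have hS : (ShortComplex.mk (kernel.ι π') π' (kernel.condition π')).Exact :=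
    ShortComplex.exact_of_f_is_kernel _ (kernelIsKernel π')
  let s := ShortComplex.Splitting.ofExactOfSection _ hS F.arrow hπ' inferInstance
  rcases hind _ _ ⟨(s.isoBinaryBiproduct : E ≅ kernel π' ⊞ (F : C))⟩ with h0 | h0
  · have hD : D.arrow ≫ π' = 0 := by
      simp only [π', cokernel.condition_assoc, zero_comp]
    have : D.arrow = 0 := by
      rw [← kernel.lift_ι π' D.arrow hD, h0.eq_of_src (kernel.ι π') 0, comp_zero]
    exact h₂ (by rw [← Subobject.ofLE_arrow hD₀, this, comp_zero])
  · exact h₁ (by rw [← Subobject.ofLE_arrow hAF, h0.eq_of_src F.arrow 0, comp_zero])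

end Groth.Agent.GabLoc29
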